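import Cfsg.Agent.Mrg.Omega.OM.Lev.Low.Full
import Cfsg.Agent.Mrg.Omega.OM.LowT.SetU
import Cfsg.Agent.Mrg.Omega.OM.SWT.CaseLS
import Cfsg.Agent.Mrg.Omega.OM.Lev.Low.SetU
import Cfsg.Agent.Mrg.Omega.OM.Lev.Low.TorusK.Inst
import Cfsg.Agent.Mrg.Omega.OM.Lev.Low.Sub
import Cfsg.Agent.Mrg.Omega.OM.Lev.Low.LowMain
import Cfsg.Agent.Mrg.Omega.OM.LowT.LinH
import Cfsg.Agent.Mrg.Omega.OM.Lev.Low.TorusK.LocIn

section


/-!
# TORUS, `q = 2`: (W) (helper607 #23961), over the frame `SWT.Ln P n`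

Port of `OM/Lev/Low/Full.lean`.

* `full_of_conj` : **(W)**: if `z, g z g⁻¹ ∈ Z_J` and `z` has full support then so has `g z g⁻¹`;
* `full_V'` : the same in `V`;
* `line'` : (L) over `Ln` + `Bg`.
-/

set_option autoImplicit false
set_option linter.unusedSectionVars false

namespace Cfsg.Agent.Omega.OM.LowT.Line

open Subgroup Cfsg Cfsg.Agent.ZN.ChoiceBase Cfsg.Agent.ZN.ChoiceSit
open Cfsg.Agent.ZN (jj zj bau zc zl o2)
open Cfsg.Agent.Omega.OM.Lev.Uni (FrL)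
open Cfsg.Agent.Omega.OM.SWT (Ln LV)
open Cfsg.Agent.Omega.OM.Lev.Low.Line
open Cfsg.Agent.Omega.NO3S.EThree.Frame (Bg)
open Cfsg.Agent.Omega.NO3S.Level (lev)

universe u

section W

variable {G : Type u} [Group G] [Finite G] {ι : Type} [Finite ι] {S : Sylow 2 G} {P : Subgroup G} {n : LV S}
  {L W Z C A : ι → Subgroup G}

theorem norm_ZL {y z : G} (hy : y ∈ normalizer (SWT.BT n : Set G)) (hz : z ∈ SWT.ZT n) :
    y * z * y⁻¹ ∈ SWT.ZT n := by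
  have h4 := cj_eq_of_mem_normalizer ((SWT.lb n).norm_B_le hy)
  have h5 : y * z * y⁻¹ ∈ cj y (SWT.ZT n) := ⟨z, hz, rfl⟩
  rwa [h4] at h5

theorem full_norm (hL : Ln P n L W Z C A 2) {y z : G} (hy : y ∈ normalizer (SWT.BT n : Set G))
    (hz : z ∈ SWT.ZT n) (hf : Full C z) : Full C (y * z * y⁻¹) := by
  intro j hj
  obtain ⟨i, -, -, h1⟩ := LowT.perm hL (inv_mem hy) j
  have h2 := (h1 _ (norm_ZL hy hz)).2 hj
  have e : y⁻¹ * (y * z * y⁻¹) * y⁻¹⁻¹ = z := by group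
  rw [e] at h2
  exact hf i h2

/-- `S` centralises the element of full support -/
theorem S_cent (hL : Ln P n L W Z C A 2)
    (hB : Bg S P (SWT.BT n) (SWT.ZT n) L W Z C 2) {z : G}
    (hz : z ∈ SWT.ZT n) (hf : Full C z) {s : G} (hs : s ∈ (S : Subgroup G)) : s * z = z * s := by
  have h1 := hB.S_norm_B hs
  have h2 := full_unique hL.fr (norm_ZL h1 hz) hz (full_norm hL h1 hz hf) hf
  exact mul_inv_eq_iff_eq_mul.1 h2

/-- **(W)** -/
theorem full_of_conj (hL : Ln P n L W Z C A 2)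
    (hB : Bg S P (SWT.BT n) (SWT.ZT n) L W Z C 2) {z g : G}
    (hz : z ∈ SWT.ZT n) (hg : g * z * g⁻¹ ∈ SWT.ZT n) (hf : Full C z) :
    Full C (g * z * g⁻¹) := by
  have : Fact (Nat.Prime 2) := ⟨Nat.prime_two⟩
  obtain ⟨z', hz'⟩ : ∃ z', z' = g * z * g⁻¹ := ⟨_, rfl⟩
  rw [← hz'] at hg ⊢
  have hBz : SWT.BT n ≤ centralizer ({z'} : Set G) := by
    intro b hb
    rw [hB.eqB] at hb
    rw [mem_centralizer_singleton_iff]
    exact (mem_centralizer_iff.1 hb.2 z' hg).symm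
  have hSz : ((g • S : Sylow 2 G) : Subgroup G) ≤ centralizer ({z'} : Set G) := by
    rw [Sylow.coe_subgroup_smul]
    rintro _ ⟨s, hs, rfl⟩
    rw [mem_centralizer_singleton_iff]
    have h1 := S_cent hL hB hz hf hs
    change g * s * g⁻¹ * z' = z' * (g * s * g⁻¹)
    rw [hz']
    calc g * s * g⁻¹ * (g * z * g⁻¹) = g * (s * z) * g⁻¹ := by group
      _ = g * (z * s) * g⁻¹ := by rw [h1]
      _ = _ := by group
  have hB2 : IsPGroup 2 ((SWT.BT n).subgroupOf (centralizer ({z'} : Set G))) :=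
    (hB.bau_two).comap_of_injective _ (Subgroup.subtype_injective _)
  obtain ⟨R, hR⟩ := hB2.exists_le_sylow
  obtain ⟨x, hx⟩ := MulAction.exists_smul_eq (centralizer ({z'} : Set G)) ((g • S).subtype hSz) R
  have h2 : SWT.BT n ≤ cj ((x : G) * g) (S : Subgroup G) := by
    intro b hb
    have h3 : (⟨b, hBz hb⟩ : centralizer ({z'} : Set G)) ∈ R := hR hb
    rw [← hx] at h3
    obtain ⟨⟨c, hc⟩, hc1, e⟩ := h3
    obtain ⟨s, hs, rfl⟩ := hc1
    refine ⟨s, hs, ?_⟩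
    have e2 : (x : G) * (g * s * g⁻¹) * (x : G)⁻¹ = b := congrArg Subtype.val e
    change (x : G) * g * s * ((x : G) * g)⁻¹ = b
    rw [← e2]
    group
  have h3 : cj ((x : G) * g)⁻¹ (SWT.BT n) ≤ (S : Subgroup G) := by
    have := cj_mono ((x : G) * g)⁻¹ h2
    rwa [cj_inv_cj] at this
  have h4 : ((x : G) * g)⁻¹ ∈ normalizer (SWT.BT n : Set G) :=
    mem_normalizer_iff_cj.2 (SWT.wc n (S : Subgroup G) S.isPGroup' (SWT.lb n).BS _ h3)
  have h5 : (x : G) * g ∈ normalizer (SWT.BT n : Set G) := inv_mem_iff.1 h4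
  have h6 := full_norm hL h5 hz hf
  have e : (x : G) * g * z * ((x : G) * g)⁻¹ = z' := by
    have h7 := mem_centralizer_singleton_iff.1 x.2
    calc (x : G) * g * z * ((x : G) * g)⁻¹ = x * (g * z * g⁻¹) * (x : G)⁻¹ := by group
      _ = z' := by rw [← hz', h7]; group
  rwa [e] at h6

/-- (W) in `V` -/
theorem full_V' (hL : Ln P n L W Z C A 2)
    (hB : Bg S P (SWT.BT n) (SWT.ZT n) L W Z C 2) {v g : G}
    (hv : v ∈ zl (S : Subgroup G) P) (hg : g * v * g⁻¹ ∈ zl (S : Subgroup G) P) (hf : Full C v) :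
    Full C (g * v * g⁻¹) :=
  full_V hL.fr (tr_of hB) (fun _ hz _ hg hf => full_of_conj hL hB hz hg hf) hv hg hf

/-- **(L)** over `Ln` + `Bg` -/
theorem line' (hL : Ln P n L W Z C A 2)
    (hB : Bg S P (SWT.BT n) (SWT.ZT n) L W Z C 2)
    {c N : Subgroup G} (hcV : c ≤ zl (S : Subgroup G) P) (hc4 : Nat.card c = 4)
    (hfix : ∀ x ∈ zc n.K, ∃ a ∈ c, a * x ∈ N)
    (htriv : c ⊓ N = ⊥) (hBc : ∀ b ∈ SWT.BT n, ∀ x ∈ c, b * x * b⁻¹ ∈ c)
    (hBN : ∀ b ∈ SWT.BT n, ∀ x ∈ N, b * x * b⁻¹ ∈ N)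
    (hZJ : ¬ SWT.ZT n ≤ N) {τ : G} (hτc : ∀ x ∈ c, τ * x * τ⁻¹ ∈ c)
    (hτ1 : ∀ x ∈ c, τ * x * τ⁻¹ = x → x = 1) (hτN : ∀ x ∈ N, τ * x * τ⁻¹ = x) :
    ∃ l, c = W l ∧ (∀ m, m ≠ l → W m ≤ N) ∧ ∀ m, m ≠ l → Z m ≤ N :=
  line hL.fr (tr_of hB) (fun _ hz _ hg hf => full_of_conj hL hB hz hg hf) hcV hc4 hfix htriv hBc hBN hZJ hτc
    hτ1 hτN

end W

end Cfsg.Agent.Omega.OM.LowT.Line

end

section


/-!
# (LL): minimal parabolics of lower stage, over a general top level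

Port of `OM/Lev/Low/LowMain.lean` to the frame `SWT.Ln P n`, `n : LV S`: `qv`, `zc_T_le`, `low_four`.
-/

set_option autoImplicit false
set_option linter.unusedSectionVars false

namespace Cfsg.Agent.Omega.OM.LowT

open Subgroup Cfsg Cfsg.Agent.ZN.ChoiceBase Cfsg.Agent.ZN.ChoiceSit
open Cfsg.Agent.ZN (jj zj bau zc zl o2)
open Cfsg.Agent.MinSimple.MinParabolic (IsMinPar)
open Cfsg.Agent.Omega.OM.SWT (Ln LV ZT BT)
open Cfsg.Agent.Omega.OM.Lev.Low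
open Cfsg.Agent.Omega.NO3S.Level (lev lev_mono lev_isLev Lev lev_le)

universe u

variable {G : Type u} [Group G] [Finite G] {ι : Type} {S : Sylow 2 G} {P : Subgroup G} {n : LV S}
  {L W Z C A : ι → Subgroup G} {q : ℕ}

/-- **`QV`** -/
theorem qv [Finite ι] (h : Ln P n L W Z C A q) {T : Subgroup G} (hT : IsPGroup 2 T) (hB : SWT.BT n ≤ T) {j : ℕ}
    (hj : lev (S : Subgroup G) j ≤ n.K) :
    YB.QV T (zc (lev (S : Subgroup G) j)) (o2 P) (zl (S : Subgroup G) P) :=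
  SWT.qv h hT hB (D := ⟨_, lev_isLev (S : Subgroup G) j⟩) hj

/-- `Ω₁Z(T) ≤ Z_J` -/
theorem zc_T_le {T : Subgroup G} (hT : IsPGroup 2 T) (hB : SWT.BT n ≤ T) : zc T ≤ SWT.ZT n :=
  SWT.zc_T_le n hT hB

/-- **(LL), `q > 2`.** -/
theorem low_four [Finite ι] (h : Ln P n L W Z C A q) (hq : 2 < q) {T Y : Subgroup G} (hT : Syl T Y)
    (hB : SWT.BT n ≤ T) (hP : IsMinPar T Y) (hc : Y ⊓ centralizer (o2 Y : Set G) ≤ o2 Y)
    (hZ : ¬ Y ≤ centralizer (zc T : Set G)) {j : ℕ} (hj : lev (S : Subgroup G) j ≤ n.K) :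
    lev (S : Subgroup G) j ≤ o2 Y :=
  SWT.low_lev h hq hT hB hP hc hZ hj

end Cfsg.Agent.Omega.OM.LowT

end

section


/-!
# The output of (4), (5), (W), `q = 2`, over a general top level

Port of `OM/Lev/Low/YKInst.lean` to the frame `SWT.Ln P n`, `n : LV S` (`yk_nat`, `yk_sym`, `NB'` are frame-free).
-/

set_option autoImplicit false
set_option linter.unusedSectionVars false

namespace Cfsg.Agent.Omega.OM.LowT

open Subgroup Cfsg Cfsg.Agent.ZN.ChoiceBase Cfsg.Agent.ZN.ChoiceSit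
open Cfsg.Agent.ZN (jj zj bau zc zl o2)
open Cfsg.Agent.MinSimple.MinParabolic (IsMinPar)
open Cfsg.Agent.Omega.NO3S.OneLine (NatC natC_of)
open Cfsg.Agent.Omega.OM.Lev.Nat (Wn mem_Wn)
open Cfsg.Agent.Omega.OM.GLev
open Cfsg.Agent.Omega.FFThm (NatKM SymKM)
open Cfsg.Agent.Omega.FrameFF (cv)
open Cfsg.Agent.Omega.OM.SWT (Ln LV ZT)
open Cfsg.Agent.Omega.OM.Lev.Low hiding OutN exists_out
open Cfsg.Agent.Omega.NO3S.Level (lev lev_mono lev_isLev Lev lev_le)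
open scoped commutatorElement

universe u

variable {G : Type u} [Group G] [Finite G]

/-- **The output of (4), (5), (W).** -/
structure OutN {ι : Type} {S : Sylow 2 G} (P : Subgroup G) (n : LV S) (L W Z C A : ι → Subgroup G) (T Y : Subgroup G)
    (j : ℕ) {F : Type} [Field F] {k : ℕ} (M : NatC F T Y (zl T Y) (cv T Y) k) (K Nn c : Fin k → Subgroup G) :
    Prop where
  inp : Inp P n L W Z C A T Y j K (fun i => Wn M i) Nn c
  nb : NB' M (LevB.BL (S : Subgroup G) j) (zc (lev (S : Subgroup G) j)) K c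
  zT : ∀ l, ¬ zc T ≤ Nn l
  wide : ∀ l, ∃ v ∈ zl (S : Subgroup G) P, ∃ a ∈ c l, a * v ∈ Nn l ∧ a ≠ 1 ∧
      ∃ v' ∈ zl (S : Subgroup G) P, ∃ a' ∈ c l, a' * v' ∈ Nn l ∧ a' ≠ 1 ∧ a ≠ a'

/-- **The output of (4), (5), (W), `q = 2`.** -/
theorem exists_out {ι : Type} [Finite ι] {S : Sylow 2 G} {P : Subgroup G} {n : LV S} {L W Z C A : ι → Subgroup G}
    (h : Ln P n L W Z C A 2) {T Y : Subgroup G} (hT : Syl T Y) (hB : SWT.BT n ≤ T)
    (hP : IsMinPar T Y) (hc : Y ⊓ centralizer (o2 Y : Set G) ≤ o2 Y) (hZ : ¬ Y ≤ centralizer (zc T : Set G)) {j : ℕ}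
    (hj : lev (S : Subgroup G) j ≤ n.K) (hlow : ∀ i < j, lev (S : Subgroup G) i ≤ o2 Y) (hnj : ¬ lev (S : Subgroup G) j ≤ o2 Y) :
    ∃ (X : Subgroup G) (AA' : Set (Subgroup G)) (hge : GE T Y X AA')
      (_ : BZ T X AA' (LevB.BL (S : Subgroup G) j) (zc (lev (S : Subgroup G) j))) (_ : ∃ A ∈ AA', ¬ A ≤ o2 Y)
      (F : Type) (_ : Field F) (_ : Finite F) (_ : CharP F 2) (k : ℕ) (hk : 0 < k)
      (N : NatKM F T Y (zl T Y) (cv T Y) k) (K Nn c : Fin k → Subgroup G),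
      OutN P n L W Z C A T Y j (natC_of hge.hm hk N.toNatK) K Nn c := by
  have hBj : LevB.BL (S : Subgroup G) j ≤ T := (BL_le_BT hj).trans hB
  obtain ⟨X, AA', hge, hbz, hex, hcon⟩ := exists_ge S hT hBj hP hc hlow hnj hZ
  have hzT : ∀ {Λ : Type} {K E Nn c : Λ → Subgroup G},
      YK T Y (zc (lev (S : Subgroup G) j)) (LevB.BL (S : Subgroup G) j) K E Nn c → ∀ l, ¬ zc T ≤ Nn l := by
    intro Λ K E Nn c hyk l hle
    refine hZ ((hyk.sup l).trans (sup_le (NO3S.Level.le_centralizer_zc T) fun x hx => mem_centralizer_iff.2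
      fun z hz => ?_))
    have hzX : z ∈ zc (lev (S : Subgroup G) j) :=
      (isLev_le hT.2.1 hBj hz : z ∈ zc (lev (S : Subgroup G) j))
    exact ((hyk.memN l z hzX).1 (hle hz) x hx).symm
  rcases hcon with ⟨F, hF1, hF2, hF3, k, hk, ⟨N⟩⟩ | ⟨k, m, hk, hm, ⟨N⟩⟩
  · obtain ⟨K, Nn, c, hyk, hnb⟩ := yk_nat hge hbz N hk hex
    have hin : Inp P n L W Z C A T Y j K (fun i => Wn (natC_of hge.hm hk N.toNatK) i) Nn c :=
      ⟨h, hT, hB, hj, hc, hlow, hyk⟩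
    have hz := hzT hyk
    exact ⟨X, AA', hge, hbz, hex, F, hF1, hF2, hF3, k, hk, N, K, Nn, c, hin, hnb, hz, hin.wide ⟨⟨0, hk⟩, hz _⟩⟩
  · exfalso
    obtain ⟨ι', hf, ⟨i⟩, W', K, d, hyk, hpb, hd2⟩ := yk_sym hge hbz N hk (by omega) hex
    have hin : Inp P n L W Z C A T Y j K W' (fun i => centralizer (K i : Set G)) (fun i => zpowers (d i)) :=
      ⟨h, hT, hB, hj, hc, hlow, hyk⟩
    obtain ⟨v, -, a, ha, -, ha1, v', -, a', ha', -, ha1', hne⟩ := hin.wide ⟨i, hzT hyk i⟩ i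
    have h1 : ∀ x ∈ zpowers (d i), x ≠ 1 → x = d i := by
      intro x hx hx1
      obtain ⟨r, rfl⟩ := mem_zpowers_iff.1 hx
      rcases Int.even_or_odd r with ⟨s, rfl⟩ | ⟨s, rfl⟩
      · exfalso
        apply hx1
        rw [← two_mul, zpow_mul, zpow_ofNat, pow_two, hd2, one_zpow]
      · rw [zpow_add, zpow_mul, zpow_ofNat, pow_two, hd2, one_zpow, one_mul, zpow_one]
    exact hne ((h1 a ha ha1).trans (h1 a' ha' ha1').symm)
where
  isLev_le {S : Sylow 2 G} {T : Subgroup G} {j : ℕ} (hT : IsPGroup 2 T) (hB : LevB.BL (S : Subgroup G) j ≤ T) :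
      zc T ≤ zc (lev (S : Subgroup G) j) :=
    (LevB.isLev_T S hT ((LevB.lb S j).KB.trans hB)).zc_le

end Cfsg.Agent.Omega.OM.LowT

end

section


/-!
# TORUS, `k ≥ 3`, over a general top level: the instances of `TK` and `BK` (helper607's frame)

Port of `OM/Lev/Low/TorusK/Inst.lean` from `SwapL.Ln` (top level `lev S n`) to `SWT.Ln` (top level `n : LV S`).
`stM`, `stY`, `fml_of`, `Loc` are those of `OM/Lev/Low/TorusK/Inst.lean`.

* `tk_of` : the instance of `TK`;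
* `Bk0` : the fields of the block of `R` (`Core.Blk`) which are used;
* `bk_of` : the instance of `BK`.
-/

set_option autoImplicit false
set_option linter.unusedSectionVars false

namespace Cfsg.Agent.Omega.OM.LowT.TorusK

open Subgroup Cfsg Cfsg.Agent.ZN.ChoiceBase Cfsg.Agent.ZN.ChoiceSit
open Cfsg.Agent.ZN (jj zj bau zc zl o2)
open Cfsg.Agent.Omega.OM.SWT (LV Ln ZT BT)
open Cfsg.Agent.Omega.NO3S.Level (lev lev_mono lev_isLev Lev lev_le BO nxt)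
open Cfsg.Agent.Omega.NO3S.EThree.Frame (Bg)
open Cfsg.Agent.Omega.OM.Lev.Low.SetS (S_norm_lev S_norm_zc S_norm_BL)
open Cfsg.Agent.Omega.FrameFF (cv)
open Cfsg.Agent.Omega.OM.Lev.Low.Line (Full)
open Cfsg.Agent.Omega.OM.LowT.Line (full_of_conj S_cent)
open Cfsg.Agent.Omega.OM.Lev.Low.TorusK (TK BK stM stY fml_of Loc)

open scoped commutatorElement

universe u

variable {G : Type u} [Group G] [Finite G]

section tk

variable {ι : Type} [Finite ι] {S : Sylow 2 G} {P : Subgroup G} {n : LV S} {L W Z C A : ι → Subgroup G}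

/-- **The instance of `TK`.** -/
theorem tk_of (hln : Ln P n L W Z C A 2) (hbg : Bg S P (BT n) (ZT n) L W Z C 2) {j : ℕ}
    (hj : lev (S : Subgroup G) j ≤ n.K) {z : G} (hz : z ∈ ZT n) (hzC : ∀ i, z ∉ C i)
    (hloc : Loc (S : Subgroup G) (BT n) (ZT n) (LevB.BL (S : Subgroup G) j) (zc (lev (S : Subgroup G) j)) Z z) :
    TK (S : Subgroup G) (BT n) (o2 P) (zl (S : Subgroup G) P) (zc n.K) (ZT n) (LevB.BL (S : Subgroup G) j)
      (zc (lev (S : Subgroup G) j)) (stM (S : Subgroup G) j) (stY (S : Subgroup G) j) L W Z C A z where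
  fr := hln.fr
  fml := fml_of S j
  two := S.isPGroup'
  BS := hbg.BS
  B0B := BL_le_BT hj
  SB := hbg.S_norm_B
  SB0 := S_norm_BL S j
  SX := S_norm_zc S j
  zB := LevB.zc_B S j
  VX := hln.fr.VX.trans ((lev_isLev (S : Subgroup G) j).zc_le_zc hj n.lev.le)
  XY := by
    cases j with
    | zero => exact le_top
    | succ m => exact (lev_isLev (S : Subgroup G) m).zc_le_zc (lev_mono _ (Nat.le_succ m)) (lev_le _ _)
  mX := fun s hs hc => mem_inf.2 ⟨hs, mem_centralizer_iff.2 fun x hx => (hc x hx).symm⟩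
  cQ := fun x hx hc => by
    have h1 := SWT.qv hln hbg.bau_two le_rfl (D := ⟨_, lev_isLev (S : Subgroup G) j⟩) hj
    exact (h1.mem x).2 ⟨hx, hc⟩
  SM := by
    cases j with
    | zero => exact le_top
    | succ m => exact S_norm_lev S m
  MY := by
    cases j with
    | zero =>
      show (⊤ : Subgroup G) ≤ normalizer (((⊤ : Subgroup G) : Subgroup G) : Set G)
      intro x _
      rw [mem_normalizer_iff]
      exact fun y => ⟨fun _ => mem_top _, fun _ => mem_top _⟩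
    | succ m => exact NO3S.Level.normalizer_le_zc _
  perm := fun s hs i => by
    obtain ⟨σ, hσ⟩ := hbg.perm_S hs
    exact ⟨σ i, hσ i⟩
  tr := hbg.trans
  wt := fun g z hz hg hf => full_of_conj hln hbg hz hg hf
  syl := hloc.syl
  loc1 := hloc.loc1
  loc2 := hloc.loc2
  zJ := hz
  zS := fun s hs => S_cent hln hbg hz hzC hs
  zC := hzC
  fact := hloc.fact

end tk

/-- **The block of `R`**: the fields of `Core.Blk` which are used. -/
structure Bk0 {ι : Type} {S : Sylow 2 G} (P : Subgroup G) (n : LV S) (L W Z C A : ι → Subgroup G) (R : Subgroup G)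
    (j : ℕ) (K N₁ c : Subgroup G) (τ : G) (l : ι) : Prop where
  ln : Ln P n L W Z C A 2
  bg : Bg S P (BT n) (ZT n) L W Z C 2
  jn : lev (S : Subgroup G) j ≤ n.K
  syl : Syl (BT n) R
  low : ∀ i < j, lev (S : Subgroup G) i ≤ o2 R
  KR : K ≤ R
  pb : PB (LevB.BL (S : Subgroup G) j) K (zl (BT n) R) N₁ (cv (BT n) R) 4
  nK : BT n ≤ normalizer ((⁅zl (BT n) R, K⁆ : Subgroup G) : Set G)
  act : ∀ t ∈ BT n, ∀ k ∈ K, ∃ k' ∈ K, ∀ v ∈ zl (BT n) R,
    t * k * t⁻¹ * v * (t * k * t⁻¹)⁻¹ = k' * v * k'⁻¹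
  cN1 : c ≤ N₁
  cD : c ⊓ cv (BT n) R = ⊥
  τK : τ ∈ K
  τB0 : τ ∈ normalizer (LevB.BL (S : Subgroup G) j : Set G)
  τc : cj τ c = c
  τ1 : ∀ x ∈ c, τ * x * τ⁻¹ = x → x = 1
  /-- `B` normalises `C_X(K)` -/
  fixN : ∀ b ∈ BT n, cj b (zc (lev (S : Subgroup G) j) ⊓ centralizer (K : Set G)) =
    zc (lev (S : Subgroup G) j) ⊓ centralizer (K : Set G)
  /-- (L) -/
  cW : c = W l
  WK : ∀ m, m ≠ l → W m ≤ centralizer (K : Set G)

section bk

variable {ι : Type} {S : Sylow 2 G} {P : Subgroup G} {n : LV S} {L W Z C A : ι → Subgroup G} {R : Subgroup G}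
  {j : ℕ} {K N₁ c : Subgroup G} {τ : G} {l : ι}

/-- `R` normalises the levels `< j` -/
theorem R_norm (h : Bk0 P n L W Z C A R j K N₁ c τ l) {m : ℕ} (hm : m < j) :
    R ≤ normalizer (lev (S : Subgroup G) m : Set G) :=
  (lev_isLev (S : Subgroup G) m).le_norm_of_o2 (h.low m hm) ((o2_le_syl h.syl).trans h.bg.BS)

/-- `⟨Ω₁Z(B)^R⟩ ≤ Ω₁Z(lev S m)`, `m < j` -/
theorem zl_le_lev (h : Bk0 P n L W Z C A R j K N₁ c τ l) {m : ℕ} (hm : m < j) :
    zl (BT n) R ≤ zc (lev (S : Subgroup G) m) := by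
  have h1 : zc (BT n) ≤ zc (lev (S : Subgroup G) m) := by
    have h2 : zc (BT n) = ZT n := h.ln.fr.zcB
    rw [h2]
    exact (lev_isLev (S : Subgroup G) m).zc_le_zc ((lev_mono _ hm.le).trans (h.jn.trans n.K_le_nx)) n.lev.next.le
  refine iSup_le fun g => ?_
  have h2 := (R_norm h hm).trans (NO3S.Level.normalizer_le_zc _)
  have h3 := cj_mono (g : G) h1
  rwa [cj_eq_of_mem_normalizer (h2 g.2)] at h3

/-- **The instance of `BK`.** -/
theorem bk_of (h : Bk0 P n L W Z C A R j K N₁ c τ l) :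
    BK (BT n) (LevB.BL (S : Subgroup G) j) (zc (lev (S : Subgroup G) j)) (stM (S : Subgroup G) j)
      (stY (S : Subgroup G) j) W l K (zl (BT n) R) N₁ (cv (BT n) R) where
  pb := h.pb
  NY := by
    cases j with
    | zero => exact le_top
    | succ m => exact zl_le_lev h (Nat.lt_succ_self m)
  KM := by
    cases j with
    | zero => exact le_top
    | succ m => exact h.KR.trans (R_norm h (Nat.lt_succ_self m))
  WN := h.cW ▸ h.cN1
  WN0 := h.cW ▸ h.cD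
  cW := fun p hp w hw k hk => mem_centralizer_iff.1 (h.WK p hp hw) k hk
  BX := fun b hb => mem_normalizer_iff_cj.2 (h.fixN b hb)
  tor := by
    refine ⟨τ, h.τK, h.τB0, fun w hw => ?_, fun w hw => h.τ1 w (h.cW ▸ hw)⟩
    rw [← h.cW] at hw ⊢
    have h1 : τ * w * τ⁻¹ ∈ cj τ c := ⟨w, hw, rfl⟩
    rwa [h.τc] at h1

end bk

end Cfsg.Agent.Omega.OM.LowT.TorusK

end

section


/-!
# TORUS, `T = B`, `q = 2`, over a general top level: the block of a parabolic `R` of finite stage over `B = BT n`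

Port of `OM/Lev/Low/Core.lean` from `SwapL.Ln` (top level `lev S n`) to `SWT.Ln` (top level `n : LV S`); instead of
`lin_V` the hypothesis (LIN) is used (`LinH`).

`R` is a minimal parabolic over `B` of characteristic 2 which moves `Ω₁Z(B)`, `lev S m ≰ O₂(R)` for some `m` with
`lev S m ≤ K₀`.

* `Blk P n L W Z C A R j K N₁ c τ l` : `R` has one block `K`, of natural type over `𝔽₄`, and its torus line is `c = W l`;
  `K` centralises all `W m`, `m ≠ l`;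
* `exists_blk_at`, `exists_blk` : it exists;
* `Blk.bk0` : its part `TorusK.Bk0`.
-/

set_option autoImplicit false
set_option linter.unusedSectionVars false

namespace Cfsg.Agent.Omega.OM.LowT.Core

open Subgroup Cfsg Cfsg.Agent.ZN.ChoiceBase Cfsg.Agent.ZN.ChoiceSit
open Cfsg.Agent.ZN (jj zj bau zc zl o2)
open Cfsg.Agent.MinSimple.MinParabolic (IsMinPar)
open Cfsg.Agent.Omega.NO3S.OneLine (NatC natC_of)
open Cfsg.Agent.Omega.OM.GLev
open Cfsg.Agent.Omega.FFThm (NatKM SymKM)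
open Cfsg.Agent.Omega.FrameFF (cv)
open Cfsg.Agent.Omega.OM.SWT (LV Ln ZT BT)
open Cfsg.Agent.Omega.NO3S.Level (lev lev_mono lev_isLev Lev lev_le)
open Cfsg.Agent.Omega.NO3S.EThree.Frame (Bg)
open Cfsg.Agent.Omega.OM.Lev.Low (YB YK NB' Mv exists_stg)
open Cfsg.Agent.Omega.OM.Lev.Low.Core (exists_all)
open scoped commutatorElement

universe u

variable {G : Type u} [Group G] [Finite G]

/-- **The block of `R`.** -/
structure Blk {ι : Type} {S : Sylow 2 G} (P : Subgroup G) (n : LV S) (L W Z C A : ι → Subgroup G) (R : Subgroup G)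
    (j : ℕ) (K N₁ c : Subgroup G) (τ : G) (l : ι) : Prop where
  ln : Ln P n L W Z C A 2
  bg : Bg S P (BT n) (ZT n) L W Z C 2
  jn : lev (S : Subgroup G) j ≤ n.K
  syl : Syl (BT n) R
  min : IsMinPar (BT n) R
  char2 : R ⊓ centralizer (o2 R : Set G) ≤ o2 R
  low : ∀ i < j, lev (S : Subgroup G) i ≤ o2 R
  nlow : ¬ lev (S : Subgroup G) j ≤ o2 R
  mv : ¬ R ≤ centralizer (zc (BT n) : Set G)
  B0K : LevB.BL (S : Subgroup G) j ≤ K
  KR : K ≤ R
  pb : PB (LevB.BL (S : Subgroup G) j) K (zl (BT n) R) N₁ (cv (BT n) R) 4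
  RK : R ≤ BT n ⊔ K
  nK : BT n ≤ normalizer ((⁅zl (BT n) R, K⁆ : Subgroup G) : Set G)
  yb : YB (BT n) (zc (lev (S : Subgroup G) j))
    (fun _ : Fin 1 => zc (lev (S : Subgroup G) j) ⊓ centralizer (K : Set G)) (fun _ => c)
  cN1 : c ≤ N₁
  N1c : N₁ ≤ c ⊔ cv (BT n) R
  cD : c ⊓ cv (BT n) R = ⊥
  c4 : Nat.card c = 4
  τK : τ ∈ K
  τB0 : τ ∈ normalizer (LevB.BL (S : Subgroup G) j : Set G)
  τc : cj τ c = c
  τ1 : ∀ x ∈ c, τ * x * τ⁻¹ = x → x = 1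
  τD : ∀ v ∈ zl (BT n) R, τ * v * τ⁻¹ * v⁻¹ ∈ cv (BT n) R → v ∈ cv (BT n) R
  cc : c ≤ ⁅⁅zl (BT n) R, K⁆, LevB.BL (S : Subgroup G) j⁆
  line : ∀ y ∈ R, ∀ v ∈ N₁, v ∉ cv (BT n) R → y * v * y⁻¹ ∈ N₁ → cj y N₁ = N₁
  act : ∀ t ∈ BT n, ∀ k ∈ K, ∃ k' ∈ K, ∀ v ∈ zl (BT n) R,
    t * k * t⁻¹ * v * (t * k * t⁻¹)⁻¹ = k' * v * k'⁻¹
  /-- `B` normalises `c` and `C_X(K)` -/
  fix : ∀ b ∈ BT n, cj b (zc (lev (S : Subgroup G) j) ⊓ centralizer (K : Set G)) =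
    zc (lev (S : Subgroup G) j) ⊓ centralizer (K : Set G) ∧ cj b c = c
  /-- (L) -/
  cW : c = W l
  WK : ∀ m, m ≠ l → W m ≤ centralizer (K : Set G)

theorem Blk.bk0 {ι : Type} {S : Sylow 2 G} {P : Subgroup G} {n : LV S} {L W Z C A : ι → Subgroup G}
    {R : Subgroup G} {j : ℕ} {K N₁ c : Subgroup G} {τ : G} {l : ι} (h : Blk P n L W Z C A R j K N₁ c τ l) :
    TorusK.Bk0 P n L W Z C A R j K N₁ c τ l :=
  ⟨h.ln, h.bg, h.jn, h.syl, h.low, h.KR, h.pb, h.nK, h.act, h.cN1, h.cD, h.τK, h.τB0, h.τc, h.τ1, fun b hb => (h.fix b hb).1, h.cW,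
    h.WK⟩

/-- a finite field of characteristic 2 with more than 2 elements has at least 4 -/
theorem four_le {F : Type} [Field F] [Finite F] [CharP F 2] (h : 2 < Nat.card F) : 4 ≤ Nat.card F := by
  have := Fintype.ofFinite F
  obtain ⟨m, -, hm⟩ := FiniteField.card F 2
  rw [Nat.card_eq_fintype_card] at h ⊢
  rw [hm] at h ⊢
  have h1 : (m : ℕ) ≠ 1 := by
    intro e
    rw [e] at h
    omega
  have h2 : 2 ≤ (m : ℕ) := by
    have := m.pos
    omega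
  calc 4 = 2 ^ 2 := rfl
    _ ≤ 2 ^ (m : ℕ) := Nat.pow_le_pow_right (by norm_num) h2

/-- the field of `exists_out` has at least 4 elements -/
theorem card_out {ι : Type} {S : Sylow 2 G} {P : Subgroup G} {n : LV S} {L W Z C A : ι → Subgroup G}
    {T Y : Subgroup G} {j : ℕ} {F : Type} [Field F] [Finite F] [CharP F 2] {k : ℕ}
    {M : NatC F T Y (zl T Y) (cv T Y) k} {K Nn c : Fin k → Subgroup G} (h : OutN P n L W Z C A T Y j M K Nn c)
    (hk : 0 < k) : 4 ≤ Nat.card F := by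
  apply four_le
  rw [← h.nb.co.card ⟨0, hk⟩]
  obtain ⟨-, -, a, ha, -, ha1, -, -, a', ha', -, ha1', hne⟩ := h.wide ⟨0, hk⟩
  have h1 : ({1, a, a'} : Set G).ncard = 3 := by
    rw [Set.ncard_eq_three]
    exact ⟨1, a, a', fun e => ha1 e.symm, fun e => ha1' e.symm, hne, rfl⟩
  have h2 : ({1, a, a'} : Set G) ⊆ (c ⟨0, hk⟩ : Set G) := by
    rintro x (rfl | rfl | rfl)
    · exact one_mem _
    · exact ha
    · exact ha'
  have h3 := Set.ncard_le_ncard h2 (Set.toFinite _)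
  rw [h1, ← Nat.card_coe_set_eq] at h3
  exact lt_of_lt_of_le (by norm_num) h3

/-- **(L)** for a line of `YB` on `Ω₁Z(lev S j)`, `lev S j ≤ K₀`. -/
theorem line_yb' {ι : Type} [Finite ι] {S : Sylow 2 G} {P : Subgroup G} {n : LV S} {L W Z C A : ι → Subgroup G}
    (hL : Ln P n L W Z C A 2) (hB : Bg S P (BT n) (ZT n) L W Z C 2) {j : ℕ} (hj : lev (S : Subgroup G) j ≤ n.K)
    {Λ : Type*} {N c : Λ → Subgroup G} (hy : YB (BT n) (zc (lev (S : Subgroup G) j)) N c) {l : Λ}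
    (hfix : ∀ b ∈ BT n, Mv N c b l l) (hcV : c l ≤ zl (S : Subgroup G) P)
    (hc4 : Nat.card (c l) = 4) (hZJ : ¬ ZT n ≤ N l) {τ : G}
    (hτc : ∀ x ∈ c l, τ * x * τ⁻¹ ∈ c l) (hτ1 : ∀ x ∈ c l, τ * x * τ⁻¹ = x → x = 1)
    (hτN : ∀ x ∈ N l, τ * x * τ⁻¹ = x) :
    ∃ i, c l = W i ∧ (∀ m, m ≠ i → W m ≤ N l) ∧ ∀ m, m ≠ i → Z m ≤ N l := by
  refine Line.line' hL hB hcV hc4 (fun x hx => hy.fix l x ?_) (hy.triv l) (fun b hb x hx => ?_) (fun b hb x hx => ?_)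
    hZJ hτc hτ1 hτN
  · exact (lev_isLev (S : Subgroup G) j).zc_le_zc hj n.lev.le hx
  · have h1 := (hfix b hb).2
    have h2 : b * x * b⁻¹ ∈ cj b (c l) := ⟨x, hx, rfl⟩
    rwa [h1] at h2
  · have h1 := (hfix b hb).1
    have h2 : b * x * b⁻¹ ∈ cj b (N l) := ⟨x, hx, rfl⟩
    rwa [h1] at h2

/-- **The block of `R` exists**, the stage `j` given. -/
theorem exists_blk_at {ι : Type} [Finite ι] {S : Sylow 2 G} {P : Subgroup G} {n : LV S}
    {L W Z C A : ι → Subgroup G} (hln : Ln P n L W Z C A 2)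
    (hbg : Bg S P (BT n) (ZT n) L W Z C 2) {R : Subgroup G}
    (hP : IsMinPar (BT n) R) (hT : Syl (BT n) R)
    (hc : R ⊓ centralizer (o2 R : Set G) ≤ o2 R) {j : ℕ} (hj : lev (S : Subgroup G) j ≤ n.K)
    (hlow : ∀ i < j, lev (S : Subgroup G) i ≤ o2 R) (hnj : ¬ lev (S : Subgroup G) j ≤ o2 R)
    (hZ : ¬ R ≤ centralizer (zc (BT n) : Set G)) (hl : LinH S P (BT n) R j) :
    ∃ (K N₁ c : Subgroup G) (τ : G) (l : ι), Blk P n L W Z C A R j K N₁ c τ l := by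
  obtain ⟨X, AA', hge, hbz, hex, F, _, _, _, k, hk, N, K, Nn, c, hout⟩ :=
    exists_out hln hT le_rfl hP hc hZ hj hlow hnj
  obtain ⟨hk1, hF⟩ := hl.one F k hk N (card_out hout hk)
  clear hout K Nn c
  subst hk1
  -- the block
  obtain ⟨K, N₁, c, τ, h1, h2, h3, h4, h5, h6, h7, h8, h9, h10, h11, h12, h13, h14, h15, h16, h17, h18, h19⟩ :=
    exists_all hge hbz N hex (by rw [hF]; norm_num)
  rw [hF] at h3 h10
  have hcV : c ≤ zl (S : Subgroup G) P := hl.le K N₁ c τ h3 h2 h7 h11 h12 h13 h14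
  have hzT : ¬ zc (BT n) ≤ zc (lev (S : Subgroup G) j) ⊓ centralizer (K : Set G) := by
    intro hle
    refine hZ (h4.trans (sup_le (NO3S.Level.le_centralizer_zc _) ?_))
    exact le_centralizer_iff.1 (hle.trans inf_le_right)
  have hfix : ∀ b ∈ BT n, Mv (fun _ : Fin 1 => zc (lev (S : Subgroup G) j) ⊓ centralizer (K : Set G)) (fun _ => c)
      b 0 0 := by
    intro b hb
    obtain ⟨i, hi⟩ := h6.perm b hb 0
    rwa [Subsingleton.elim i 0] at hi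
  have hτX : ∀ x ∈ c, τ * x * τ⁻¹ ∈ c := fun x hx => by
    have h20 : τ * x * τ⁻¹ ∈ cj τ c := ⟨x, hx, rfl⟩
    rwa [h13] at h20
  have hZJ : ¬ ZT n ≤ zc (lev (S : Subgroup G) j) ⊓ centralizer (K : Set G) := fun h =>
    hzT ((SWT.zc_T_le n hT.2.1 le_rfl).trans h)
  obtain ⟨l, hcl, hW, -⟩ := line_yb' hln hbg hj h6 (l := 0) hfix hcV h10 hZJ hτX h14
    (fun x hx => by
      have h20 := mem_centralizer_iff.1 (mem_inf.1 hx).2 τ h11
      rw [h20]; group)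
  exact ⟨K, N₁, c, τ, l, ⟨hln, hbg, hj, hT, hP, hc, hlow, hnj, hZ, h1, h2, h3, h4, h5, h6, h7, h8, h9, h10, h11,
    h12, h13, h14, h15, h16, h17, h18, hfix, hcl, fun m hm => (hW m hm).trans inf_le_right⟩⟩

/-- **The block of `R` exists.** -/
theorem exists_blk {ι : Type} [Finite ι] {S : Sylow 2 G} {P : Subgroup G} {n : LV S}
    {L W Z C A : ι → Subgroup G} (hln : Ln P n L W Z C A 2)
    (hbg : Bg S P (BT n) (ZT n) L W Z C 2) {R : Subgroup G}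
    (hP : IsMinPar (BT n) R) (hT : Syl (BT n) R)
    (hc : R ⊓ centralizer (o2 R : Set G) ≤ o2 R) {m : ℕ} (hm : lev (S : Subgroup G) m ≤ n.K)
    (hn : ¬ lev (S : Subgroup G) m ≤ o2 R) (hZ : ¬ R ≤ centralizer (zc (BT n) : Set G))
    (hlin : ∀ j, lev (S : Subgroup G) j ≤ n.K → (∀ i < j, lev (S : Subgroup G) i ≤ o2 R) →
      ¬ lev (S : Subgroup G) j ≤ o2 R → LinH S P (BT n) R j) :
    ∃ (j : ℕ) (K N₁ c : Subgroup G) (τ : G) (l : ι), Blk P n L W Z C A R j K N₁ c τ l := by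
  obtain ⟨j, hjm, hlow, hnj⟩ := exists_stg (S : Subgroup G) hn
  have hj : lev (S : Subgroup G) j ≤ n.K := (lev_mono _ hjm).trans hm
  exact ⟨j, exists_blk_at hln hbg hP hT hc hj hlow hnj hZ (hlin j hj hlow hnj)⟩

end Cfsg.Agent.Omega.OM.LowT.Core

end

section


/-!
# TORUS, `q = 2`, `k ≥ 2`: the local inputs of the frame of helper607 #23961 from `SWT.Ln` + `Bg`

Port of `OM/Lev/Low/TorusK/LocIn.lean` to a general top level `n : LV S`.

* `syl` : `B` is a Sylow 2-subgroup of `C_G(Z p : p ≠ l)`;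
* `loc1`, `loc2` : `E = Ω₁Z(O₂(C_G(Z p : p ≠ l, m)))` is elementary abelian, `Z_J ≤ E ≤ B`, normalised by this centraliser;
* `exists_z` : `Ω₁Z(S) = {1, z}`, `z ∈ Z_J` of full support;
* `fact` : a local `H ≥ S` is generated by `N_H(Ω₁Z(lev S j))` and `C_H(z)`.
-/

set_option autoImplicit false
set_option linter.unusedSectionVars false

namespace Cfsg.Agent.Omega.OM.LowT.TorusK.LocIn

open Subgroup Cfsg Cfsg.Agent.ZN.ChoiceBase Cfsg.Agent.ZN.ChoiceSit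
open Cfsg.Agent.ZN (jj zj bau zc zl o2)
open Cfsg.Agent.Omega.MinPar (IsLoc IsPar IsParS)
open Cfsg.Agent.Omega.OM.Lev.Uni (FrL)
open Cfsg.Agent.Omega.OM.SWT (Ln LV)
open Cfsg.Agent.Omega.OM.Lev.Low.TorusK.LocIn (third mem_B0 isLoc_of)
open Cfsg.Agent.Omega.NO3S.EThree.Frame (Bg)
open Cfsg.Agent.Omega.NO3S.Level (lev lev_mono lev_isLev lev_le)
open Cfsg.Agent.Omega.OM.Lev.Low.Line (Full)
open Cfsg.Agent.Omega.EK3.Q.Loc (YI CI mem_YI mem_CI)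

universe u

variable {G : Type u} [Group G] [Finite G] {ι : Type} [Finite ι] {S : Sylow 2 G} {P : Subgroup G} {n : LV S}
  {L W Z C A : ι → Subgroup G}

/-- An element of `N_G(B)` which centralises `Z p` for all `p ≠ l` centralises `Z_J`. -/
theorem mem_cent (hL : Ln P n L W Z C A 2)
    (hB : Bg S P (SWT.BT n) (SWT.ZT n) L W Z C 2) {l : ι} {t : G}
    (ht : t ∈ normalizer (SWT.BT n : Set G))
    (hc : ∀ p, p ≠ l → ∀ x ∈ Z p, t * x = x * t) : t ∈ centralizer (SWT.ZT n : Set G) := by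
  obtain ⟨j, hj, -, -⟩ := LowT.perm hL ht l
  have hjl : j = l := by
    by_contra hne
    have h1 : cj t (Z j) = Z j := by
      have h2 : t ∈ centralizer (Z j : Set G) := mem_centralizer_iff.2 fun x hx => (hc j hne x hx).symm
      exact cj_eq_of_mem_normalizer (centralizer_le_normalizer _ h2)
    have h2 := hj.trans h1.symm
    have h3 := congrArg (cj t⁻¹) h2
    rw [cj_inv_cj, cj_inv_cj] at h3
    exact hne (LowT.Z_inj hL h3).symm
  rw [hjl] at hj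
  have hl : ∀ z ∈ Z l, z * t = t * z := fun z hz => (LowT.cent_of_cj hL hj hz).symm
  exact EK3.Q.Loc.mem_D hB (i := l) (j := l) (mem_CI.2 fun p hp _ z hz => (hc p hp z hz).symm) hl hl

/-- **(syl)** `B` is a Sylow 2-subgroup of `C_G(Z p : p ≠ l)`. -/
theorem syl (hL : Ln P n L W Z C A 2)
    (hB : Bg S P (SWT.BT n) (SWT.ZT n) L W Z C 2) :
    ∀ (l : ι) (T : Subgroup G), IsPGroup 2 T → SWT.BT n ≤ T →
      (∀ p, p ≠ l → T ≤ centralizer (Z p : Set G)) → T ≤ SWT.BT n := by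
  intro l T hT hBT hc
  refine EK3.Q.Loc.le_B_of hB hT (fun t ht => ?_) (hBT.trans le_normalizer)
  exact mem_cent hL hB (l := l) (hB.le_norm_B hT hBT ht) fun p hp x hx =>
    (mem_centralizer_iff.1 (hc p hp ht) x hx).symm

/-- **(loc2)**, strong form: `E = Ω₁Z(O₂(C_G(Z p : p ≠ l, m)))`. -/
theorem loc2' (hB : Bg S P (SWT.BT n) (SWT.ZT n) L W Z C 2) {l m r : ι} (hl : r ≠ l)
    (hm : r ≠ m) : ∃ E : Subgroup G, IsElementaryAbelian 2 E ∧ E ≤ SWT.BT n ∧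
      SWT.ZT n ≤ E ∧ ∀ g : G, (∀ p, p ≠ l → p ≠ m → ∀ x ∈ Z p, g * x = x * g) →
        g ∈ normalizer (E : Set G) := by
  refine ⟨zc (o2 (CI Z l m)), NO3S.OneLine.zc_elem _, (zc_le _).trans (EK3.Q.Loc.o2CI_le_B hB l m),
    EK3.Q.Loc.ZJ_le_zc hB hl hm, fun g hg => EK3.Q.Loc.le_normalizer_zc_o2 hB _ ?_⟩
  exact mem_CI.2 fun p hp hp' z hz => (hg p hp hp' z hz).symm

/-- **(loc1)** -/
theorem loc1 (hB : Bg S P (SWT.BT n) (SWT.ZT n) L W Z C 2) :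
    ∀ l : ι, ∃ E : Subgroup G, IsElementaryAbelian 2 E ∧ E ≤ SWT.BT n ∧
      SWT.ZT n ≤ E ∧ ∀ g : G, (∀ p, p ≠ l → ∀ x ∈ Z p, g * x = x * g) →
        g ∈ normalizer (E : Set G) := by
  intro l
  obtain ⟨r, hr⟩ := hB.two l
  obtain ⟨E, h1, h2, h3, h4⟩ := loc2' hB hr hr
  exact ⟨E, h1, h2, h3, fun g hg => h4 g fun p hp _ => hg p hp⟩

/-- **(loc2)**: `k ≥ 3`. -/
theorem loc2 (hB : Bg S P (SWT.BT n) (SWT.ZT n) L W Z C 2)
    (h3 : ∀ l m : ι, ∃ r, r ≠ l ∧ r ≠ m) :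
    ∀ l m : ι, l ≠ m → ∃ E : Subgroup G, IsElementaryAbelian 2 E ∧ E ≤ (S : Subgroup G) ∧
      (∀ x ∈ Z l, ∀ y ∈ Z m, x ≠ 1 → y ≠ 1 → x * y ∈ E) ∧
      ∀ g : G, (∀ p, p ≠ l → p ≠ m → ∀ x ∈ Z p, g * x = x * g) → g ∈ normalizer (E : Set G) := by
  intro l m _
  obtain ⟨r, hl, hm⟩ := h3 l m
  obtain ⟨E, h1, h2, h4, h5⟩ := loc2' hB hl hm
  exact ⟨E, h1, h2.trans hB.BS, fun x hx y hy _ _ =>
    mul_mem (h4 (hB.fr.Z_le l hx)) (h4 (hB.fr.Z_le m hy)), h5⟩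

/-- `B_j = C_S(Ω₁Z(lev S j)) ≤ B` -/
theorem BL_le {j : ℕ} (hj : lev (S : Subgroup G) j ≤ n.K) : LevB.BL (S : Subgroup G) j ≤ SWT.BT n := BL_le_BT hj

omit [Finite ι] in
/-- `Ω₁Z(S) ≤ Z_J` -/
theorem zc_le_ZJ (hB : Bg S P (SWT.BT n) (SWT.ZT n) L W Z C 2) :
    zc (S : Subgroup G) ≤ SWT.ZT n := by
  intro x hx
  obtain ⟨h1, h2, h3⟩ := ZN.ChoiceBase.mem_zc.1 hx
  have hZB : SWT.ZT n ≤ SWT.BT n := hB.fr.ZJV.trans hB.fr.VB
  have hxB : x ∈ SWT.BT n := hB.mem_B h1 fun z hz => (h3 z (hB.BS (hZB hz))).symm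
  rw [← hB.fr.zcB]
  exact ZN.ChoiceBase.mem_zc.2 ⟨hxB, h2, fun y hy => h3 y (hB.BS hy)⟩

/-- **`Ω₁Z(S) = {1, z}`**, `z ∈ Z_J` of full support. -/
theorem exists_z (hL : Ln P n L W Z C A 2)
    (hB : Bg S P (SWT.BT n) (SWT.ZT n) L W Z C 2) :
    ∃ z ∈ SWT.ZT n, Full C z ∧ z ≠ 1 ∧ z ∈ zc (S : Subgroup G) ∧
      ∀ x ∈ zc (S : Subgroup G), x ≠ 1 → x = z := by
  obtain ⟨z, hz, hf⟩ := Lev.Low.Line.exists_full hL.fr
  have hne : ∃ i : ι, True := by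
    by_contra hcon
    push Not at hcon
    have hι : ∀ i : ι, False := fun i => hcon i
    have h1 := hL.hyp.zc_ne
    apply h1
    rw [eq_bot_iff]
    intro x hx
    rw [mem_bot]
    exact hB.fr.C0 x (hB.fr.ZJV (zc_le_ZJ hB hx)) fun i => (hι i).elim
  obtain ⟨i₀, -⟩ := hne
  have hz1 : z ≠ 1 := by
    rintro rfl
    exact hf i₀ (one_mem _)
  refine ⟨z, hz, hf, hz1, ?_, fun x hx hx1 => ?_⟩
  · exact ZN.ChoiceBase.mem_zc.2 ⟨hB.BS (hB.fr.VB (hB.fr.ZJV hz)), hB.fr.Vsq (hB.fr.ZJV hz),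
      fun s hs => Line.S_cent hL hB hz hf hs⟩
  · have hxJ := zc_le_ZJ hB hx
    have hxs := (ZN.ChoiceBase.mem_zc.1 hx).2.2
    refine Lev.Low.Line.full_unique hL.fr hxJ hz (fun j hj => hx1 ?_) hf
    refine hB.fr.C0 x (hB.fr.ZJV hxJ) fun i => ?_
    obtain ⟨s, hs, e⟩ := hB.trans j i
    obtain ⟨σ, hσ⟩ := hB.perm_S hs
    have h1 : σ j = i := hB.W_inj ((hσ j).1.symm.trans e)
    have h2 : s * x * s⁻¹ ∈ cj s (C j) := ⟨x, hj, rfl⟩
    rw [(hσ j).2.2, h1, hxs s hs, mul_inv_cancel_right] at h2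
    exact h2

/-- **(fact)**, for any `z` with `Ω₁Z(S) = {1, z}`. -/
theorem fact' (S : Sylow 2 G) {H : Subgroup G} (hH : IsLoc (S : Subgroup G) H) {n : LV S} {j : ℕ}
    (hj : lev (S : Subgroup G) j ≤ n.K) (hall : ∀ R, IsParS (S : Subgroup G) R → n.K ≤ o2 R) {z : G} (hz : z ∈ zc (S : Subgroup G))
    (hz1 : z ≠ 1) (hzS : ∀ x ∈ zc (S : Subgroup G), x ≠ 1 → x = z) :
    H ≤ (H ⊓ normalizer (zc (lev (S : Subgroup G) j) : Set G)) ⊔ (H ⊓ centralizer ({z} : Set G)) := by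
  have hlv := lev_isLev (S : Subgroup G) j
  refine hH.le_of_forall S ?_ fun Y hY hYH => ?_
  · refine le_trans (le_inf inf_le_left fun g hg => ?_) le_sup_left
    exact NO3S.Level.normalizer_le_zc _ (hlv.norm _ hlv.le le_rfl hg.2)
  · by_cases hZ : Y ≤ normalizer (zc (S : Subgroup G) : Set G)
    · refine le_trans (le_inf hYH fun g hg => ?_) le_sup_right
      rw [mem_centralizer_singleton_iff]
      have h1 : g * z * g⁻¹ ∈ zc (S : Subgroup G) := (mem_normalizer_iff.1 (hZ hg) z).1 hz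
      have h2 := hzS _ h1 fun e => hz1 (conj_eq_one_iff.1 e)
      exact mul_inv_eq_iff_eq_mul.1 h2
    · refine le_trans (le_inf hYH ?_) le_sup_left
      have h1 := hall Y ⟨hY, hZ⟩
      exact (hlv.le_norm_of_o2 (hj.trans h1) (hY.isLoc.o2_le S)).trans (NO3S.Level.normalizer_le_zc _)

/-- **(fact)** -/
theorem fact (hL : Ln P n L W Z C A 2)
    (hB : Bg S P (SWT.BT n) (SWT.ZT n) L W Z C 2)
    (hall : ∀ R, IsParS (S : Subgroup G) R → n.K ≤ o2 R) :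
    ∃ z ∈ SWT.ZT n, Full C z ∧ z ≠ 1 ∧ z ∈ zc (S : Subgroup G) ∧
      (∀ x ∈ zc (S : Subgroup G), x ≠ 1 → x = z) ∧
      ∀ H : Subgroup G, (S : Subgroup G) ≤ H → (∃ U : Subgroup G, U ≠ ⊥ ∧ IsPGroup 2 U ∧ H ≤ normalizer (U : Set G)) →
        ∀ j, lev (S : Subgroup G) j ≤ n.K → H ≤ (H ⊓ normalizer (zc (lev (S : Subgroup G) j) : Set G)) ⊔ (H ⊓ centralizer ({z} : Set G)) := by
  obtain ⟨z, hz, hf, hz1, hzS, hu⟩ := exists_z hL hB
  refine ⟨z, hz, hf, hz1, hzS, hu, fun H hH hU j hj => ?_⟩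
  obtain ⟨U, hU1, hU2, hU3⟩ := hU
  exact fact' S (isLoc_of S hH hU1 hU2 hU3) hj hall hzS hz1 hu

end Cfsg.Agent.Omega.OM.LowT.TorusK.LocIn

end
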